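import Groth.Agent.Lib.Hartogs3.Scheme
import Groth.Agent.Lib.ParaF27.Res
import Groth.Agent.Lib.ParaF27.Pair

/-!
# Hartogs for locally Noetherian normal schemes: restriction to the complement of codimension two
-/

set_option autoImplicit false
set_option linter.style.haveILetI false
set_option backward.isDefEq.respectTransparency false

universe u

open CategoryTheory CategoryTheory.Limits AlgebraicGeometry TopologicalSpace Opposite

namespace Groth.Agent.Hartogs14

variable {X : Scheme.{u}}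

/-- Bijectivity of restriction on affine opens gives it on all opens. -/
theorem rb_of_affine {U : X.Opens}
    (h : ∀ W : X.Opens, IsAffineOpen W →
      Function.Bijective (X.presheaf.map (homOfLE (inf_le_left : W ⊓ U ≤ W)).op)) : ParaF27.RB U := by
  have hres : ∀ {A B C : X.Opens} (h₁ : B ≤ A) (h₂ : C ≤ B) (r : Γ(X, A)),
      X.presheaf.map (homOfLE h₂).op (X.presheaf.map (homOfLE h₁).op r) =
        X.presheaf.map (homOfLE (h₂.trans h₁)).op r := fun h₁ h₂ r => by
    rw [← ConcreteCategory.comp_apply, ← Functor.map_comp]; rfl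
  have inj : ∀ W : X.Opens, Function.Injective (X.presheaf.map (homOfLE (inf_le_left : W ⊓ U ≤ W)).op) := by
    intro W s t hst
    refine X.sheaf.eq_of_locally_eq' (fun A : {A : X.affineOpens // A.1 ≤ W} => A.1.1) W
      (fun A => homOfLE A.2) (fun x hx => ?_) s t fun A => ?_
    · obtain ⟨A, hA, hxA, hAW⟩ := exists_isAffineOpen_mem_and_subset (U := W) hx
      exact Opens.mem_iSup.2 ⟨⟨⟨A, hA⟩, hAW⟩, hxA⟩
    · refine (h A.1.1 A.1.2).1 ?_
      show X.presheaf.map _ (X.presheaf.map (homOfLE A.2).op s) = X.presheaf.map _ (X.presheaf.map (homOfLE A.2).op t)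
      rw [hres, hres, ← hres (inf_le_left : W ⊓ U ≤ W) (inf_le_inf_right U A.2) s, hst, hres]
  intro W
  refine ⟨inj W, fun t => ?_⟩
  have hs : ∀ A : {A : X.affineOpens // A.1 ≤ W}, ∃ s : Γ(X, A.1.1),
      X.presheaf.map (homOfLE (inf_le_left : A.1.1 ⊓ U ≤ A.1.1)).op s =
        X.presheaf.map (homOfLE (inf_le_inf_right U A.2)).op t := fun A => (h A.1.1 A.1.2).2 _
  choose s hs using hs
  obtain ⟨r, hr, -⟩ := X.sheaf.existsUnique_gluing' (fun A : {A : X.affineOpens // A.1 ≤ W} => A.1.1) W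
    (fun A => homOfLE A.2) (fun x hx => by
      obtain ⟨A, hA, hxA, hAW⟩ := exists_isAffineOpen_mem_and_subset (U := W) hx
      exact Opens.mem_iSup.2 ⟨⟨⟨A, hA⟩, hAW⟩, hxA⟩) s (fun A B => by
      refine inj _ ?_
      show X.presheaf.map _ (X.presheaf.map (homOfLE inf_le_left).op (s A)) =
        X.presheaf.map _ (X.presheaf.map (homOfLE inf_le_right).op (s B))
      rw [hres, hres, ← hres inf_le_left (inf_le_inf_right U inf_le_left) (s A), hs A,
        ← hres inf_le_left (inf_le_inf_right U inf_le_right) (s B), hs B, hres, hres])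
  refine ⟨r, ?_⟩
  refine X.sheaf.eq_of_locally_eq' (fun A : {A : X.affineOpens // A.1 ≤ W} => A.1.1 ⊓ U) (W ⊓ U)
    (fun A => homOfLE (inf_le_inf_right U A.2)) (fun x hx => ?_) _ _ fun A => ?_
  · obtain ⟨A, hA, hxA, hAW⟩ := exists_isAffineOpen_mem_and_subset (U := W) hx.1
    exact Opens.mem_iSup.2 ⟨⟨⟨A, hA⟩, hAW⟩, hxA, hx.2⟩
  · show X.presheaf.map _ (X.presheaf.map _ r) = X.presheaf.map (homOfLE (inf_le_inf_right U A.2)).op t
    rw [hres, ← hs A, ← hres A.2 inf_le_left r]
    exact congrArg _ (hr A)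

theorem map_map_self {A B : (X.Opens)ᵒᵖ} (j : A ⟶ B) (i : B ⟶ A) (v : X.presheaf.obj A) :
    X.presheaf.map i (X.presheaf.map j v) = v := by
  have h : j ≫ i = 𝟙 A := Quiver.Hom.unop_inj (Subsingleton.elim _ _)
  rw [← ConcreteCategory.comp_apply, ← Functor.map_comp, h, CategoryTheory.Functor.map_id]
  rfl

/-- Hartogs: on a locally Noetherian normal scheme sections extend uniquely across codimension two. -/
theorem rb_of_normal [IsLocallyNoetherian X]
    (hX : ∀ x : X, IsDomain (X.presheaf.stalk x) ∧ IsIntegrallyClosed (X.presheaf.stalk x))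
    (U : X.Opens) (hU : ∀ x : X, x ∉ (U : Set X) → 2 ≤ ringKrullDim (X.presheaf.stalk x)) :
    ParaF27.RB U := by
  refine rb_of_affine fun W hW => ?_
  haveI : IsAffine (W : Scheme.{u}) := hW
  haveI : IsNoetherianRing Γ(X, W) := IsLocallyNoetherian.component_noetherian ⟨W, hW⟩
  let pt : ∀ (P : Ideal Γ(X, W)) [P.IsPrime], X := fun P hP => hW.fromSpec ⟨P, hP⟩
  have hptW : ∀ (P : Ideal Γ(X, W)) [P.IsPrime], pt P ∈ W := fun P hP =>
    hW.range_fromSpec.le ⟨_, rfl⟩
  have hloc : ∀ (P : Ideal Γ(X, W)) [P.IsPrime], IsDomain (Localization.AtPrime P) ∧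
      IsIntegrallyClosed (Localization.AtPrime P) := by
    intro P hP
    letI := X.presheaf.algebra_section_stalk ⟨pt P, hptW P⟩
    haveI : IsLocalization.AtPrime (X.presheaf.stalk (pt P)) P := hW.isLocalization_stalk' ⟨P, hP⟩ (hptW P)
    obtain ⟨h1, h2⟩ := hX (pt P)
    let e := (IsLocalization.algEquiv P.primeCompl (Localization.AtPrime P) (X.presheaf.stalk (pt P))).toRingEquiv
    exact ⟨e.toMulEquiv.isDomain, IsIntegrallyClosed.of_equiv e.symm⟩
  obtain ⟨I, hI⟩ : ∃ I : Ideal Γ(X, W), (SetLike.coe (hW.fromSpec ⁻¹ᵁ U) : Set (PrimeSpectrum Γ(X, W)))ᶜ =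
      PrimeSpectrum.zeroLocus (I : Set Γ(X, W)) :=
    (PrimeSpectrum.isClosed_iff_zeroLocus_ideal _).1 (hW.fromSpec ⁻¹ᵁ U).isOpen.isClosed_compl
  have hI' : ∀ P : Ideal Γ(X, W), P.IsPrime → I ≤ P → (2 : ℕ∞) ≤ P.height := by
    intro P hP hle
    haveI := hP
    have hp : pt P ∉ U := fun h => by
      have h' : (⟨P, hP⟩ : PrimeSpectrum Γ(X, W)) ∈ PrimeSpectrum.zeroLocus (I : Set Γ(X, W)) := hle
      rw [← hI] at h'
      exact h' h
    letI := X.presheaf.algebra_section_stalk ⟨pt P, hptW P⟩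
    haveI : IsLocalization.AtPrime (X.presheaf.stalk (pt P)) P := hW.isLocalization_stalk' ⟨P, hP⟩ (hptW P)
    have h2 := hU _ hp
    rw [IsLocalization.AtPrime.ringKrullDim_eq_height P (X.presheaf.stalk (pt P))] at h2
    exact WithBot.coe_le_coe.1 h2
  obtain ⟨x, hx, y, hy, hreg, hxy⟩ := Hartogs3.exists_pair I hloc hI'
  have hb : ∀ f ∈ I, X.basicOpen f ≤ U := fun f hf z hz => by
    have hzW : z ∈ W := X.basicOpen_le f hz
    obtain ⟨q, rfl⟩ : z ∈ Set.range hW.fromSpec := hW.range_fromSpec.ge hzW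
    by_contra hzU
    have h' : q ∈ PrimeSpectrum.zeroLocus (I : Set Γ(X, W)) := by rw [← hI]; exact hzU
    have h2 : q ∈ hW.fromSpec ⁻¹ᵁ X.basicOpen f := hz
    rw [hW.fromSpec_preimage_basicOpen] at h2
    exact h2 (h' hf)
  have key := Hartogs3.bijective_res_aux (X := (W : Scheme.{u})) (isAffineOpen_top _) (W.ι ⁻¹ᵁ U)
    (W.topIso.inv x) (W.topIso.inv y) ?_ ?_ ?_ ?_
  · exact ParaF27.map_bij_congr W.ι_image_top
      (show W.ι ''ᵁ (W.ι ⁻¹ᵁ U) = W ⊓ U by
        rw [Scheme.Hom.image_preimage_eq_opensRange_inf, Scheme.Opens.opensRange_ι]) key _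
  · have hb' := hb x hx
    intro z hz
    exact hb' (show W.ι z ∈ X.basicOpen x by
      have h1 : W.ι z ∈ W.ι ''ᵁ (W : Scheme.{u}).basicOpen (W.topIso.inv x) := ⟨z, hz, rfl⟩
      rw [Scheme.Opens.ι_image_basicOpen'] at h1
      have h2 : ∀ v : Γ(X, W), X.presheaf.map (eqToHom W.ι_image_top.symm).op (W.topIso.inv v) = v := fun v => by
        exact map_map_self _ _ v
      rwa [h2] at h1)
  · have hb' := hb y hy
    intro z hz
    exact hb' (show W.ι z ∈ X.basicOpen y by
      have h1 : W.ι z ∈ W.ι ''ᵁ (W : Scheme.{u}).basicOpen (W.topIso.inv y) := ⟨z, hz, rfl⟩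
      rw [Scheme.Opens.ι_image_basicOpen'] at h1
      have h2 : ∀ v : Γ(X, W), X.presheaf.map (eqToHom W.ι_image_top.symm).op (W.topIso.inv v) = v := fun v => by
        exact map_map_self _ _ v
      rwa [h2] at h1)
  · intro a ha
    have := congrArg W.topIso.hom ha
    rw [map_mul, map_zero] at this
    simp only [Iso.inv_hom_id_apply] at this
    exact (ConcreteCategory.bijective_of_isIso W.topIso.hom).1 ((hreg _ this).trans (map_zero _).symm)
  · intro z hz
    have := map_dvd W.topIso.hom.hom hz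
    rw [map_mul] at this
    simp only [Iso.inv_hom_id_apply] at this
    have h2 := map_dvd W.topIso.inv.hom (hxy _ this)
    rwa [show W.topIso.inv.hom (W.topIso.hom.hom z) = z from W.topIso.hom_inv_id_apply z] at h2

end Groth.Agent.Hartogs14
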